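import Mathlib
import Cfsg.Agent.H77.HN.Words

/-!
Certificates for double coset enumerations: a group `N`, given on numbered points, and one further
generator `t` which carries the listed generators of the stabiliser of the point 0 to elements of `N`.

Only the upper bound for the index of `N` is treated. A word is read with its first letter acting
first, as in `H77.HN.evw`.
-/

set_option autoImplicit false

namespace H23
namespace DC

open H77.HN (evw run runK agree)

/-- the data -/
structure Cert where
  /-- images of the points under the letters -/
  T : ℕ → ℕ → ℕ
  /-- points that determine an element -/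
  B : List ℕ
  /-- number of points -/
  np : ℕ
  /-- number of orbits of `N` on the cosets -/
  r : ℕ
  /-- number of edges -/
  ne : ℕ
  /-- letters generating the stabiliser of an orbit -/
  sg : ℕ → List ℕ
  /-- letters generating the stabiliser of the point 0 -/
  hl : List ℕ
  /-- the image of such a letter under conjugation by `t` -/
  phi : ℕ → ℕ
  /-- edge number of a point, for the stabiliser of an orbit -/
  orb : ℕ → ℕ → ℕ
  /-- parent of a point in its tree -/
  par : ℕ → ℕ → ℕ
  /-- letter from the parent to the point -/
  plet : ℕ → ℕ → ℕ
  /-- depth of a point in its tree -/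
  dep : ℕ → ℕ → ℕ
  src : ℕ → ℕ
  dst : ℕ → ℕ
  nw : ℕ → List ℕ
  mw : ℕ → List ℕ
  /-- the point carried to 0 by `nw` -/
  root : ℕ → ℕ
  /-- relators: 0 is `t`, 1 is its inverse, `l + 2` is the letter `l` -/
  rels : List (List ℕ)

/-- one step of a path: a letter, or the further generator with a witness -/
inductive Step where
  | lett (l : ℕ)
  | fwd (k : ℕ) (h s : List ℕ)
  | bwd (k : ℕ) (h s : List ℕ)

/-- the code of a step -/
def Step.code : Step → ℕ
  | .lett l => l + 2
  | .fwd _ _ _ => 0
  | .bwd _ _ _ => 1

/-- the word of a path -/
def pathCode (st : List Step) : List ℕ := st.map Step.code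

/-- what is known: letters fixing a base coset, and edges -/
structure Known where
  stabs : List (ℕ × ℕ)
  edges : List ℕ
deriving DecidableEq

namespace Known

def fix (K : Known) (i : ℕ) : List ℕ := (K.stabs.filter (fun p => p.1 == i)).map Prod.snd

def hasEdge (K : Known) (k : ℕ) : Bool := K.edges.contains k

end Known

/-- one deduction -/
inductive Ded where
  /-- a relator path from `(i, w)` back to orbit `i` shows that the letter `e` fixes the base -/
  | stab (i e : ℕ) (w : List ℕ) (st : List Step)
  /-- a relator path with one unknown step `t` along the edge `k` -/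
  | edge (k i : ℕ) (w : List ℕ) (f g : List Step) (h s s2 : List ℕ)

namespace Cert

variable (D : Cert)

/-- a witness for the equation `w = s ++ u ++ h` with `h` in the stabiliser of 0 -/
noncomputable def splitOK (allowed : List ℕ) (w u h s : List ℕ) : Bool :=
  h.all (fun e => D.hl.contains e) && s.all (fun e => allowed.contains e) &&
    agree D.T D.B (s ++ u ++ h) w

/-- a witness for the equation `w = s ++ u ++ phi h` with `h` in the stabiliser of 0 -/
noncomputable def splitImOK (allowed : List ℕ) (w u h s : List ℕ) : Bool :=
  h.all (fun e => D.hl.contains e) && s.all (fun e => allowed.contains e) &&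
    agree D.T D.B (s ++ u ++ h.map D.phi) w

/-- the end of a path -/
noncomputable def walk (K : Known) : List Step → ℕ → List ℕ → Option (ℕ × List ℕ)
  | [], i, w => some (i, w)
  | .lett l :: st, i, w => walk K st i (w ++ [l])
  | .fwd k h s :: st, i, w =>
    bif decide (k < D.ne ∧ D.src k = i) && K.hasEdge k && D.splitOK (K.fix i) w (D.nw k) h s then
      walk K st (D.dst k) (D.mw k ++ h.map D.phi) else none
  | .bwd k h s :: st, i, w =>
    bif decide (k < D.ne ∧ D.dst k = i) && K.hasEdge k && D.splitImOK (K.fix i) w (D.mw k) h s then
      walk K st (D.src k) (D.nw k ++ h) else none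

/-- check one deduction -/
noncomputable def dedOne (K : Known) : Ded → Option Known
  | .stab i e w st =>
    bif D.rels.contains (pathCode st) &&
        (match D.walk K st i w with
        | none => false
        | some (j, v) => decide (j = i) && agree D.T D.B (e :: w) v) then
      some ⟨(i, e) :: K.stabs, K.edges⟩ else none
  | .edge k i w f g h s s2 =>
    bif decide (k < D.ne) && D.rels.contains (pathCode f ++ 0 :: pathCode g) &&
        (match D.walk K f i w, D.walk K g (D.dst k) (D.mw k ++ h.map D.phi) with
        | some (j1, v1), some (j2, v2) => decide (j1 = D.src k ∧ j2 = i) &&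
            D.splitOK (K.fix j1) v1 (D.nw k) h s &&
            s2.all (fun e => (K.fix i).contains e) && agree D.T D.B (s2 ++ w) v2
        | _, _ => false) then
      some ⟨K.stabs, k :: K.edges⟩ else none

/-- check a list of deductions -/
noncomputable def dedAll : Known → List Ded → Option Known
  | K, [] => some K
  | K, d :: ds => match D.dedOne K d with
    | none => none
    | some K' => dedAll K' ds

/-- the trees are sensible -/
def treeShape : List ℕ → Bool
  | [] => true
  | k :: ks => decide (k < D.ne ∧ D.dst k = ks.length + 1 ∧ D.src k ≤ ks.length) && treeShape ks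

/-- what holds at the start: the letters in `l0` fix the first coset, and the tree edges hold -/
def init (l0 tl : List ℕ) : Known := ⟨l0.map (fun l => (0, l)), tl⟩

/-- everything is known -/
def done (K : Known) : Bool :=
  (List.range D.ne).all (fun k => K.hasEdge k) &&
    (List.range D.r).all (fun i => (D.sg i).all (fun l => (K.fix i).contains l))

/-- one entry of a tree -/
noncomputable def treeEntry (i c : ℕ) : Bool :=
  decide (D.orb i c < D.ne ∧ D.src (D.orb i c) = i) &&
    (if D.dep i c = 0 then decide (D.root (D.orb i c) = c)
    else (D.sg i).contains (D.plet i c) && decide (D.par i c < D.np ∧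
      D.T (D.plet i c) (D.par i c) = c ∧ D.orb i (D.par i c) = D.orb i c ∧
      D.dep i (D.par i c) + 1 = D.dep i c))

/-- all entries in a range of one tree -/
noncomputable def treeOK (i lo len : ℕ) : Bool :=
  (List.range len).all fun j => D.treeEntry i (lo + j)

/-- the roots are carried to 0 -/
noncomputable def rootsOK : Bool :=
  (List.range D.ne).all fun k =>
    Nat.beq (runK D.T (D.nw k) (D.root k)) 0 && decide (D.src k < D.r ∧ D.dst k < D.r ∧ D.root k < D.np)

end Cert

end DC
end H23
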