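import Mathlib
import Cfsg.Agent.H23.DC.Cert

/-!
Soundness of double coset certificates: an upper bound for the index of `N`.
-/

set_option autoImplicit false

namespace H23
namespace DC

open H77.HN (evw run runK agree Rep)

/-- a certificate with its hypotheses on `N` -/
structure Setting (N : Type*) [Group N] where
  D : Cert
  gen : ℕ → N
  R : Rep gen D.np D.T
  hB : R.IsBase D.B
  hnp : 0 < D.np
  hH : R.fixPt ⟨0, hnp⟩ ≤ Subgroup.closure (gen '' {l | l ∈ D.hl})
  hroots : D.rootsOK = true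
  htree : ∀ i < D.r, ∀ c < D.np, D.treeEntry i c = true

namespace Setting

variable {N : Type*} [Group N] (E : Setting N)

/-- the value of a word -/
abbrev e (w : List ℕ) : N := evw E.gen w

/-- the stabiliser belonging to an orbit -/
def stab (i : ℕ) : Subgroup N := Subgroup.closure (E.gen '' {l | l ∈ E.D.sg i})

theorem eq_of_agree {u v : List ℕ} (h : agree E.D.T E.D.B u v = true) : E.e u = E.e v :=
  E.R.evw_eq_of_agree E.hB h

theorem root_spec {k : ℕ} (hk : k < E.D.ne) :
    run E.D.T (E.D.nw k) (E.D.root k) = 0 ∧ E.D.src k < E.D.r ∧ E.D.dst k < E.D.r ∧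
      E.D.root k < E.D.np := by
  have := E.hroots
  simp only [Cert.rootsOK, List.all_eq_true, List.mem_range, Bool.and_eq_true, Nat.beq_eq,
    decide_eq_true_eq, H77.HN.runK_eq] at this
  exact this k hk

/-- a point is reached from the root of its edge by an element of the stabiliser -/
theorem tree_reach {i : ℕ} (hi : i < E.D.r) : ∀ (d : ℕ) (c : Fin E.D.np), E.D.dep i c = d →
    E.D.orb i c < E.D.ne ∧ E.D.src (E.D.orb i c) = i ∧
      ∃ s ∈ E.stab i, ∃ p : Fin E.D.np, (p : ℕ) = E.D.root (E.D.orb i c) ∧ E.R.φ s p = c := by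
  intro d
  induction d with
  | zero =>
    intro c hd
    have h := E.htree i hi c c.2
    simp only [Cert.treeEntry, Bool.and_eq_true, hd, if_true, decide_eq_true_eq] at h
    exact ⟨h.1.1, h.1.2, 1, one_mem _, c, h.2.symm, by simp⟩
  | succ d ih =>
    intro c hd
    have h := E.htree i hi c c.2
    simp only [Cert.treeEntry, Bool.and_eq_true, hd, Nat.succ_ne_zero, if_false,
      decide_eq_true_eq, List.contains_iff_mem] at h
    obtain ⟨⟨-, -⟩, hl, hp, hT, ho, hdp⟩ := h
    obtain ⟨h1, h2, s, hs, p, hpe, hps⟩ := ih ⟨E.D.par i c, hp⟩ (by simpa using hdp)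
    simp only at h1 h2 hpe
    rw [ho] at h1 h2 hpe
    refine ⟨h1, h2, E.gen (E.D.plet i c) * s,
      mul_mem (Subgroup.subset_closure ⟨_, hl, rfl⟩) hs, p, hpe, ?_⟩
    rw [map_mul, Equiv.Perm.mul_apply, hps]
    exact Fin.ext (by rw [E.R.spec]; exact hT)

/-- every element of `N` is covered by an edge -/
theorem exists_form {i : ℕ} (hi : i < E.D.r) (g : N) :
    ∃ k < E.D.ne, E.D.src k = i ∧ ∃ h ∈ Subgroup.closure (E.gen '' {l | l ∈ E.D.hl}),
      ∃ s ∈ E.stab i, g = h * E.e (E.D.nw k) * s := by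
  obtain ⟨hk, hsrc, s, hs, p, hp, hps⟩ := E.tree_reach hi _ ((E.R.φ g)⁻¹ ⟨0, E.hnp⟩) rfl
  refine ⟨_, hk, hsrc,
    g * s * (E.e (E.D.nw (E.D.orb i (((E.R.φ g)⁻¹ ⟨0, E.hnp⟩ : Fin E.D.np) : ℕ))))⁻¹,
    E.hH ?_, s⁻¹, inv_mem hs, by group⟩
  rw [Rep.mem_fixPt, map_mul, map_mul, map_inv, Equiv.Perm.mul_apply, Equiv.Perm.mul_apply]
  have h0 : E.R.φ (E.e (E.D.nw (E.D.orb i ((E.R.φ g)⁻¹ ⟨0, E.hnp⟩)))) p = ⟨0, E.hnp⟩ :=
    Fin.ext (by rw [E.R.evw_apply, hp]; exact (E.root_spec hk).1)
  rw [Equiv.Perm.inv_eq_iff_eq.mpr h0.symm, hps]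
  simp

end Setting

/-- the bigger group with its further generator -/
structure Amalgam {N : Type*} [Group N] (E : Setting N) (G : Type*) [Group G] where
  ι : N →* G
  gt : G
  twist : ∀ l ∈ E.D.hl, gt * ι (E.gen l) = ι (E.gen (E.D.phi l)) * gt
  gen_top : Subgroup.closure (insert gt (Set.range ι)) = ⊤
  rels : ∀ w ∈ E.D.rels,
    evw (fun c => if c = 0 then gt else if c = 1 then gt⁻¹ else ι (E.gen (c - 2))) w = 1

namespace Amalgam

variable {N : Type*} [Group N] {E : Setting N} {G : Type*} [Group G] (A : Amalgam E G)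

/-- the value of a code -/
def L (c : ℕ) : G := if c = 0 then A.gt else if c = 1 then A.gt⁻¹ else A.ι (E.gen (c - 2))

/-- the cosets -/
abbrev Cos : Type _ := G ⧸ A.ι.range

/-- the base cosets along the tree -/
noncomputable def qs : List ℕ → List A.Cos
  | [] => [QuotientGroup.mk 1]
  | k :: ks =>
    qs ks ++ [((A.ι (E.e (E.D.mw k)))⁻¹ * A.gt * A.ι (E.e (E.D.nw k))) •
      (qs ks).getD (E.D.src k) (QuotientGroup.mk 1)]

/-- the base coset of an orbit -/
noncomputable def q (tl : List ℕ) (i : ℕ) : A.Cos := (A.qs tl).getD i (QuotientGroup.mk 1)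

theorem qs_length (ks : List ℕ) : (A.qs ks).length = ks.length + 1 := by
  induction ks with
  | nil => rfl
  | cons k ks ih => simp [qs, ih]

theorem q_cons_of_le {k : ℕ} {ks : List ℕ} {j : ℕ} (hj : j ≤ ks.length) :
    A.q (k :: ks) j = A.q ks j := by
  unfold q
  rw [qs, List.getD_append _ _ _ _ (by rw [A.qs_length]; omega)]

theorem q_zero (tl : List ℕ) : A.q tl 0 = QuotientGroup.mk 1 := by
  induction tl with
  | nil => rfl
  | cons k ks ih => rw [A.q_cons_of_le (Nat.zero_le _), ih]

theorem tree_edge : ∀ (tl : List ℕ), E.D.treeShape tl = true → ∀ k ∈ tl,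
    (E.D.src k ≤ tl.length ∧ E.D.dst k ≤ tl.length) ∧ k < E.D.ne ∧
      (A.gt * A.ι (E.e (E.D.nw k))) • A.q tl (E.D.src k) =
        A.ι (E.e (E.D.mw k)) • A.q tl (E.D.dst k) := by
  intro tl
  induction tl with
  | nil => simp
  | cons k ks ih =>
    intro h
    simp only [Cert.treeShape, Bool.and_eq_true, decide_eq_true_eq] at h
    obtain ⟨⟨hk, hd, hs⟩, hks⟩ := h
    intro k' hk'
    rcases List.mem_cons.mp hk' with rfl | hk'
    · refine ⟨⟨by simp; omega, by simp; omega⟩, hk, ?_⟩
      rw [A.q_cons_of_le hs, hd]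
      unfold q
      rw [qs, List.getD_append_right _ _ _ _ (by rw [A.qs_length]), A.qs_length, Nat.sub_self,
        List.getD_cons_zero, smul_smul]
      group
    · obtain ⟨⟨h1, h2⟩, h3, h4⟩ := ih hks k' hk'
      refine ⟨⟨by simp; omega, by simp; omega⟩, h3, ?_⟩
      rw [A.q_cons_of_le h1, A.q_cons_of_le h2]
      exact h4

/-- what has been proved so far -/
def Valid (tl : List ℕ) (K : Known) : Prop :=
  (∀ p ∈ K.stabs, A.ι (E.gen p.2) • A.q tl p.1 = A.q tl p.1) ∧
  ∀ k ∈ K.edges, k < E.D.ne ∧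
    (A.gt * A.ι (E.e (E.D.nw k))) • A.q tl (E.D.src k) = A.ι (E.e (E.D.mw k)) • A.q tl (E.D.dst k)

theorem fix_mem {tl : List ℕ} {K : Known} (hK : A.Valid tl K) {i : ℕ} {s : List ℕ}
    (hs : ∀ l ∈ s, l ∈ K.fix i) : A.ι (E.e s) • A.q tl i = A.q tl i := by
  have : E.e s ∈ (MulAction.stabilizer G (A.q tl i)).comap A.ι := by
    refine H77.HN.evw_mem fun l hl => ?_
    have := hs l hl
    simp only [Known.fix, List.mem_map, List.mem_filter, beq_iff_eq] at this
    obtain ⟨p, ⟨hp, rfl⟩, rfl⟩ := this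
    exact hK.1 p hp
  exact this

/-- the coset of a node -/
noncomputable def node (tl : List ℕ) (i : ℕ) (w : List ℕ) : A.Cos := A.ι (E.e w) • A.q tl i

theorem twist_word (h : List ℕ) (hh : ∀ l ∈ h, l ∈ E.D.hl) :
    A.gt * A.ι (E.e h) = A.ι (E.e (h.map E.D.phi)) * A.gt := by
  induction h with
  | nil => simp
  | cons l h ih =>
    simp only [List.mem_cons, forall_eq_or_imp] at hh
    simp only [Setting.e, List.map_cons, H77.HN.evw_cons, map_mul] at ih ⊢
    rw [← mul_assoc, ih hh.2, mul_assoc, A.twist l hh.1, mul_assoc]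

theorem split_fwd {tl : List ℕ} {K : Known} (hK : A.Valid tl K) {k : ℕ} {w h s : List ℕ}
    (he : k ∈ K.edges) (hsp : E.D.splitOK (K.fix (E.D.src k)) w (E.D.nw k) h s = true) :
    A.gt • A.node tl (E.D.src k) w = A.node tl (E.D.dst k) (E.D.mw k ++ h.map E.D.phi) := by
  simp only [Cert.splitOK, Bool.and_eq_true, List.all_eq_true, List.contains_iff_mem] at hsp
  obtain ⟨⟨hh, hs⟩, hag⟩ := hsp
  have hw := E.eq_of_agree hag
  simp only [Setting.e, H77.HN.evw_append] at hw
  simp only [node, Setting.e, H77.HN.evw_append]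
  rw [← hw, map_mul, map_mul, mul_smul, mul_smul, A.fix_mem hK hs, smul_smul, smul_smul,
    A.twist_word h hh, mul_assoc, mul_smul, (hK.2 k he).2, map_mul, mul_smul]

theorem split_bwd {tl : List ℕ} {K : Known} (hK : A.Valid tl K) {k : ℕ} {w h s : List ℕ}
    (he : k ∈ K.edges) (hsp : E.D.splitImOK (K.fix (E.D.dst k)) w (E.D.mw k) h s = true) :
    A.gt⁻¹ • A.node tl (E.D.dst k) w = A.node tl (E.D.src k) (E.D.nw k ++ h) := by
  simp only [Cert.splitImOK, Bool.and_eq_true, List.all_eq_true, List.contains_iff_mem] at hsp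
  obtain ⟨⟨hh, hs⟩, hag⟩ := hsp
  have hw := E.eq_of_agree hag
  simp only [Setting.e, H77.HN.evw_append] at hw
  simp only [node, Setting.e, H77.HN.evw_append]
  rw [inv_smul_eq_iff, ← hw, map_mul, map_mul, mul_smul, mul_smul, A.fix_mem hK hs, map_mul,
    smul_smul A.gt, ← mul_assoc, A.twist_word h hh, mul_assoc, mul_smul, (hK.2 k he).2]

theorem walk_sound {tl : List ℕ} {K : Known} (hK : A.Valid tl K) : ∀ (st : List Step) {i : ℕ}
    {w : List ℕ} {j : ℕ} {v : List ℕ}, E.D.walk K st i w = some (j, v) →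
    evw A.L (pathCode st) • A.node tl i w = A.node tl j v := by
  intro st
  induction st with
  | nil =>
    intro i w j v h
    simp only [Cert.walk, Option.some.injEq, Prod.mk.injEq] at h
    obtain ⟨rfl, rfl⟩ := h
    simp [pathCode]
  | cons a st ih =>
    intro i w j v h
    rw [pathCode, List.map_cons, H77.HN.evw_cons, mul_smul]
    cases a with
    | lett l =>
      simp only [Cert.walk] at h
      rw [← ih h]
      congr 1
      simp [node, L, Step.code, Setting.e, mul_smul]
    | fwd k hh s =>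
      simp only [Cert.walk, Bool.cond_eq_ite, Option.ite_none_right_eq_some] at h
      obtain ⟨hc, h⟩ := h
      simp only [Bool.and_eq_true, decide_eq_true_eq, Known.hasEdge, List.contains_iff_mem] at hc
      obtain ⟨⟨⟨-, rfl⟩, he⟩, hs⟩ := hc
      rw [← ih h]
      congr 1
      simpa [L, Step.code] using A.split_fwd hK he hs
    | bwd k hh s =>
      simp only [Cert.walk, Bool.cond_eq_ite, Option.ite_none_right_eq_some] at h
      obtain ⟨hc, h⟩ := h
      simp only [Bool.and_eq_true, decide_eq_true_eq, Known.hasEdge, List.contains_iff_mem] at hc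
      obtain ⟨⟨⟨-, rfl⟩, he⟩, hs⟩ := hc
      rw [← ih h]
      congr 1
      simpa [L, Step.code] using A.split_bwd hK he hs

theorem dedOne_sound {tl : List ℕ} {K K' : Known} (hK : A.Valid tl K) (d : Ded)
    (h : E.D.dedOne K d = some K') : A.Valid tl K' := by
  cases d with
  | stab i e w st =>
    simp only [Cert.dedOne, Bool.cond_eq_ite, Option.ite_none_right_eq_some, Option.some.injEq] at h
    obtain ⟨hc, h⟩ := h
    subst h
    simp only [Bool.and_eq_true, List.contains_iff_mem] at hc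
    obtain ⟨hrel, hw⟩ := hc
    split at hw
    · exact absurd hw (by simp)
    rename_i j v hwalk
    simp only [Bool.and_eq_true, decide_eq_true_eq] at hw
    obtain ⟨rfl, hag⟩ := hw
    refine ⟨fun p hp => ?_, hK.2⟩
    rcases List.mem_cons.mp hp with rfl | hp
    · have h1 := A.walk_sound hK st hwalk
      rw [show evw A.L (pathCode st) = 1 from A.rels _ hrel, one_smul] at h1
      have he := E.eq_of_agree hag
      simp only [Setting.e, H77.HN.evw_cons] at he
      simp only [node, Setting.e] at h1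
      rw [← he, map_mul, mul_smul] at h1
      exact (smul_left_cancel _ h1).symm
    · exact hK.1 p hp
  | edge k i w f g h₁ s s2 =>
    simp only [Cert.dedOne, Bool.cond_eq_ite, Option.ite_none_right_eq_some, Option.some.injEq] at h
    obtain ⟨hc, h⟩ := h
    subst h
    simp only [Bool.and_eq_true, decide_eq_true_eq, List.contains_iff_mem] at hc
    obtain ⟨⟨hk, hrel⟩, hw⟩ := hc
    split at hw
    swap
    · exact absurd hw (by simp)
    rename_i _ _ j1 v1 j2 v2 hf hg
    simp only [Bool.and_eq_true, decide_eq_true_eq, List.all_eq_true, List.contains_iff_mem] at hw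
    obtain ⟨⟨⟨⟨rfl, rfl⟩, hsp⟩, hs2⟩, hag⟩ := hw
    refine ⟨hK.1, fun k' hk' => ?_⟩
    rcases List.mem_cons.mp hk' with rfl | hk'
    swap
    · exact hK.2 k' hk'
    refine ⟨hk, ?_⟩
    have h1 := A.walk_sound hK f hf
    have h2 := A.walk_sound hK g hg
    simp only [Cert.splitOK, Bool.and_eq_true, List.all_eq_true, List.contains_iff_mem] at hsp
    obtain ⟨⟨hh, hs⟩, hag1⟩ := hsp
    have hv1 := E.eq_of_agree hag1
    have hv2 := E.eq_of_agree hag
    simp only [Setting.e, H77.HN.evw_append] at hv1 hv2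
    have hr : evw A.L (pathCode f ++ 0 :: pathCode g) = 1 := A.rels _ hrel
    rw [H77.HN.evw_append, H77.HN.evw_cons, show A.L 0 = A.gt by simp [L]] at hr
    have hend : A.node tl j2 v2 = A.node tl j2 w := by
      simp only [node, Setting.e]
      rw [← hv2, map_mul, mul_smul, A.fix_mem hK hs2]
    rw [hend] at h2
    have h3 : evw A.L (pathCode g) • A.gt • A.node tl (E.D.src k') v1 = A.node tl j2 w := by
      rw [← h1, smul_smul, smul_smul, hr, one_smul]
    have h4 := smul_left_cancel _ (h3.trans h2.symm)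
    simp only [node, Setting.e, H77.HN.evw_append] at h4
    rw [← hv1, map_mul, map_mul, mul_smul, mul_smul, A.fix_mem hK hs, smul_smul, smul_smul,
      A.twist_word h₁ hh, mul_assoc, mul_smul, map_mul, mul_smul _ _ (A.q tl (E.D.dst k'))] at h4
    exact smul_left_cancel _ h4

theorem dedAll_sound {tl : List ℕ} : ∀ (ds : List Ded) {K K' : Known}, A.Valid tl K →
    E.D.dedAll K ds = some K' → A.Valid tl K' := by
  intro ds
  induction ds with
  | nil => intro K K' hK h; simp only [Cert.dedAll, Option.some.injEq] at h; exact h ▸ hK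
  | cons d ds ih =>
    intro K K' hK h
    simp only [Cert.dedAll] at h
    cases hd : E.D.dedOne K d <;> rw [hd] at h
    · exact absurd h (by simp)
    · exact ih (A.dedOne_sound hK d hd) h

theorem init_valid (l0 tl : List ℕ) (htl : E.D.treeShape tl = true) :
    A.Valid tl (Cert.init l0 tl) := by
  refine ⟨fun p hp => ?_, fun k hk => (A.tree_edge tl htl k hk).2⟩
  simp only [Cert.init, List.mem_map] at hp
  obtain ⟨l, -, rfl⟩ := hp
  rw [A.q_zero, MulAction.Quotient.smul_mk, QuotientGroup.eq, smul_eq_mul, mul_one, mul_one]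
  exact inv_mem ⟨_, rfl⟩

variable {tl : List ℕ} {K : Known} (hK : A.Valid tl K) (hdone : E.D.done K = true)

include hK hdone in
theorem stab_fix {i : ℕ} (hi : i < E.D.r) {g : N} (hg : g ∈ E.stab i) :
    A.ι g • A.q tl i = A.q tl i := by
  have h2 : E.stab i ≤ (MulAction.stabilizer G (A.q tl i)).comap A.ι := by
    rw [Setting.stab, Subgroup.closure_le]
    rintro _ ⟨l, hl, rfl⟩
    simp only [Cert.done, Bool.and_eq_true, List.all_eq_true, List.mem_range,
      List.contains_iff_mem] at hdone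
    have := A.fix_mem hK (i := i) (s := [l]) (by simpa using hdone.2 i hi l hl)
    simpa [Setting.e] using this
  exact h2 hg

/-- the cosets reached from the base cosets -/
def Reached (tl : List ℕ) : Set A.Cos := {y | ∃ i < E.D.r, ∃ n : N, A.ι n • A.q tl i = y}

include hK hdone in
theorem gt_reached {y : A.Cos} (hy : y ∈ A.Reached tl) : A.gt • y ∈ A.Reached tl := by
  obtain ⟨i, hi, n, rfl⟩ := hy
  obtain ⟨k, hk, rfl, h, hh, s, hs, rfl⟩ := E.exists_form hi n
  have htw : ∃ m, A.gt * A.ι h = A.ι m * A.gt := by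
    induction hh using Subgroup.closure_induction with
    | mem x hx =>
      obtain ⟨l, hl, rfl⟩ := hx
      exact ⟨_, A.twist l hl⟩
    | one => exact ⟨1, by simp⟩
    | mul a b _ _ ha hb =>
      obtain ⟨m, hm⟩ := ha
      obtain ⟨m', hm'⟩ := hb
      exact ⟨m * m', by rw [map_mul, map_mul, ← mul_assoc, hm, mul_assoc, hm', mul_assoc]⟩
    | inv a _ ha =>
      obtain ⟨m, hm⟩ := ha
      refine ⟨m⁻¹, ?_⟩
      rw [map_inv, map_inv, eq_inv_mul_iff_mul_eq, ← mul_assoc, ← hm, mul_inv_cancel_right]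
  obtain ⟨m, hm⟩ := htw
  simp only [Cert.done, Bool.and_eq_true, List.all_eq_true, List.mem_range, Known.hasEdge,
    List.contains_iff_mem] at hdone
  refine ⟨E.D.dst k, (E.root_spec hk).2.2.1, m * E.e (E.D.mw k), ?_⟩
  rw [map_mul, mul_smul, ← (hK.2 k (hdone.1 k hk)).2, map_mul, map_mul, mul_smul, mul_smul,
    A.stab_fix hK (by simpa [Cert.done, Known.hasEdge] using hdone) hi hs, smul_smul, smul_smul,
    smul_smul, ← mul_assoc, ← hm, mul_assoc]

include hK hdone in
theorem reached_all [Finite N] (hr : 0 < E.D.r) (y : A.Cos) : y ∈ A.Reached tl := by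
  have hfin : (A.Reached tl).Finite := by
    refine (Set.finite_range fun p : Fin E.D.r × N => A.ι p.2 • A.q tl p.1).subset ?_
    rintro _ ⟨i, hi, n, rfl⟩
    exact ⟨(⟨i, hi⟩, n), rfl⟩
  obtain ⟨g, rfl⟩ := QuotientGroup.mk_surjective y
  have hg : g ∈ Subgroup.closure (insert A.gt (Set.range A.ι)) := A.gen_top ▸ Subgroup.mem_top g
  have key : ∀ z ∈ A.Reached tl, g • z ∈ A.Reached tl := by
    induction hg using Subgroup.closure_induction with
    | mem a ha =>
      rcases ha with rfl | ⟨n, rfl⟩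
      · exact fun y hy => A.gt_reached hK hdone hy
      · rintro _ ⟨i, hi, m, rfl⟩
        exact ⟨i, hi, n * m, by rw [map_mul, mul_smul]⟩
    | one => intro y hy; rwa [one_smul]
    | mul a b _ _ ha hb => intro y hy; rw [mul_smul]; exact ha _ (hb y hy)
    | inv a _ ha =>
      intro y hy
      have himg : (fun z => a • z) '' A.Reached tl = A.Reached tl := by
        refine Set.eq_of_subset_of_ncard_le ?_ ?_ hfin
        · rintro _ ⟨z, hz, rfl⟩; exact ha z hz
        · rw [Set.ncard_image_of_injective _ (MulAction.injective a)]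
      rw [← himg] at hy
      obtain ⟨z, hz, rfl⟩ := hy
      rwa [inv_smul_smul]
  have h0 : (QuotientGroup.mk (1 : G) : A.Cos) ∈ A.Reached tl :=
    ⟨0, hr, 1, by rw [map_one, one_smul, A.q_zero]⟩
  have := key _ h0
  rwa [MulAction.Quotient.smul_mk, smul_eq_mul, mul_one] at this

include hK hdone in
/-- the index is at most the sum of the indices of the stabilisers -/
theorem index_le [Finite N] (hr : 0 < E.D.r) :
    Finite A.Cos ∧ A.ι.range.index ≤ ∑ i ∈ Finset.range E.D.r, (E.stab i).index := by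
  let f : (Σ i : Fin E.D.r, N ⧸ E.stab i) → A.Cos := fun x => A.ι x.2.out • A.q tl x.1
  have hsurj : Function.Surjective f := by
    intro y
    obtain ⟨i, hi, n, rfl⟩ := A.reached_all hK hdone hr y
    refine ⟨⟨⟨i, hi⟩, QuotientGroup.mk n⟩, ?_⟩
    obtain ⟨u, hu⟩ := QuotientGroup.mk_out_eq_mul (E.stab i) n
    show A.ι (QuotientGroup.mk n : N ⧸ E.stab i).out • A.q tl i = _
    rw [hu, map_mul, mul_smul, A.stab_fix hK hdone hi u.2]
  refine ⟨Finite.of_surjective f hsurj, ?_⟩
  have h := Nat.card_le_card_of_surjective f hsurj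
  rw [Nat.card_sigma] at h
  rw [Finset.sum_range]
  exact h

end Amalgam

end DC
end H23
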